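import Cfsg.Agent.H794.ImcTools
import Cfsg.Agent.H492.IMJ3
import Cfsg.Agent.H653.Spor.J3

/-!
# The Malle–Navarro character condition for `J₃` (helper941)

`imc_j3` : for every prime `p` dividing `|J₃|` some irreducible character of degree divisible by `p` has a vector fixed by a
Sylow `p`-subgroup. For `p = 2, 3` there are characters of defect zero: linear programming on the columns of the character
table at the elements of even order (helper417, helper653).
-/

set_option autoImplicit false
set_option maxRecDepth 100000

namespace Cfsg.Agent.H941.Imc.JThree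

open Cfsg Cfsg.Agent.Characters.Core Cfsg.Agent.H417.JThreeLP Cfsg.Agent.H625.SylConst Cfsg.Agent.H794.Imc

universe u

section LP

variable {ι : Type*} [Fintype ι]

/-- a degree divisible by `2 ^ 7` -/
theorem dz_two {V : ι → Fin 8 → ℤ} (h : Hyp V) : ∃ χ, (128 : ℤ) ∣ V χ 0 :=
  H653.Spor.J3.adj h 128
    [-19907248, 8818977917, 42154885057, 25448909766, 71694903145, -64223418599, -63779435889, 0, -520833333333, -15659689694221, -51404067178775, -17519518488679, 48722795335777, -16129032258065, -43478260869565, -56548104805673, -267583398332184, -210779750210950, 241194116279781, -25158491513894, -233636979122047, -12555196794599, -444382427556139, 32349712260097, 490210485545391, -16245674774221, -125000000000000, 558416692297547, 121608250586872, -451028283469873, 125519268398188, -409319279903499, -16245674774221, 296854155737343, 380317436504963, 39717952143975, -1000000000000000, -125000000000000, 2167882750479679, -189046401518077, -106208209017135]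
    (by decide +kernel) (by decide +kernel)

/-- a degree divisible by `3 ^ 5` -/
theorem dz_three {V : ι → Fin 8 → ℤ} (h : Hyp V) : ∃ χ, (243 : ℤ) ∣ V χ 0 :=
  H653.Spor.J3.adj h 243
    [0, -163, -515, 431, -4111, 113, -583, 0, -5208, -42617, 99894, -322581, -191234, 134008, -434783, -104167, 735511, -1428571, 40293, 281629, -3845335, -428813, 2072455, 1396533, -300333, -1671422, -1250000, 540988, 2993351, -6019248, 2107932, 219552, -1671422, -151319, 6821104, -1199016, -10000000, 1177439, -5000000, -443578, 942603]
    (by decide +kernel) (by decide +kernel)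

end LP

/-- **The characters of defect zero of `J₃` for the primes 2 and 3.** -/
theorem exists_dvd {S : Type u} [Group S] [Finite S] (h : Spor.IsoJ3 S) :
    (∃ χ : IrrCharacter S, 2 ^ 7 ∣ charDegree (χ : S → ℂ)) ∧ ∃ χ : IrrCharacter S, 3 ^ 5 ∣ charDegree (χ : S → ℂ) := by
  classical
  have := Cfsg.Agent.Characters.Core.finite_irr (G := S)
  have := Fintype.ofFinite (IrrCharacter S)
  obtain ⟨V, hV, H⟩ := H417.JThreeDeg.hyp h
  have key : ∀ m : ℕ, (∃ χ, (m : ℤ) ∣ V χ 0) → ∃ χ : IrrCharacter S, m ∣ charDegree (χ : S → ℂ) := by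
    rintro m ⟨χ, hχ⟩
    refine ⟨χ, ?_⟩
    rw [hV χ] at hχ
    exact_mod_cast hχ
  exact ⟨key 128 (dz_two H), key 243 (dz_three H)⟩

/-- **The Malle–Navarro character condition for `J₃`.** -/
theorem imc_j3 {S : Type u} [Group S] [Finite S] (h : Spor.IsoJ3 S) {p : ℕ} [hp : Fact p.Prime] (hd : p ∣ Nat.card S) :
    IMC p S := by
  have hc := (H898.J3Cent.base h).2.1
  obtain ⟨⟨χ, hχ⟩, ⟨ψ, hψ⟩⟩ := exists_dvd h
  have key : ∀ {q : ℕ} (hq : q.Prime) (n : ℕ), ¬ q ^ (n + 1) ∣ 50232960 → (Nat.card S).factorization q ≤ n := by
    intro q hq n hn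
    by_contra hlt
    push Not at hlt
    have := (hq.pow_dvd_iff_le_factorization Nat.card_pos.ne').2 hlt
    rw [hc] at this
    exact hn this
  have hex : ¬ p ^ 2 ∣ 50232960 → IMC p S := by
    intro h2
    rw [← hc] at h2
    exact imc_of_exact hd h2 (H492.IMJ3.im_j3 h hd)
  have hd' := hd
  rw [hc] at hd'
  rcases H898.J3Cent.prime_dvd_card hp.out hd' with rfl | rfl | rfl | rfl | rfl
  · exact IMC.of_defect_zero hd χ ((pow_dvd_pow 2 (key Nat.prime_two 7 (by decide))).trans hχ)
  · exact IMC.of_defect_zero hd ψ ((pow_dvd_pow 3 (key Nat.prime_three 5 (by decide))).trans hψ)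
  · exact hex (by decide)
  · exact hex (by decide)
  · exact hex (by decide)

end Cfsg.Agent.H941.Imc.JThree
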