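import Cfsg.Agent.H492.NodeHecke
import Cfsg.Agent.H625.SylConst

/-!
# Constituents of permutation characters from spherical functions (helper941)

The theorems of `H492.IMSph` and `H492.NodeHecke` (helper492) construct an irreducible character of exact degree from an
eigenfunction of the Hecke algebra of `(G, H)`. Here the same constructions are given with the additional conclusion
`Fix H χ`: the character is a constituent of the permutation character on the cosets of `H`. With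
`H625.SylConst.IMC.of_le` this gives the character condition `IMC p G` when `p ∤ |G : H|` and `p ∣ χ(1)`.

* `fix_of_sum` : `∑ φ g χ g⁻¹ ≠ 0` for a function `φ` invariant under right multiplication by `H`.
* `exists_irr_of_spherical`, `exists_irr_of_hecke`, `exists_irr_of_table`, `exists_irr_of_lab`, `Nd.exists_irr`.
* `imc_of` : the final step.
-/

set_option autoImplicit false

namespace Cfsg.Agent.H941.Imc.Sph

open Cfsg Cfsg.Agent.Characters.Core Cfsg.Agent.H492.IMSph Cfsg.Agent.H492.NodeHecke Cfsg.Agent.H625.SylConst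
open scoped ComplexConjugate

universe u v

variable {G : Type u} [Group G]

/-- A function invariant under right multiplication by `H`. -/
theorem fix_of_sum [Fintype G] (H : Subgroup G) {φ : G → ℂ} (hr : ∀ h ∈ H, ∀ g, φ (g * h) = φ g)
    (χ : IrrCharacter G) (h : ∑ g, φ g * (χ : G → ℂ) g⁻¹ ≠ 0) : Fix H (χ : G → ℂ) := by
  classical
  have := Fintype.ofFinite H
  obtain ⟨n, ρ, -, hρ⟩ := χ.2
  rw [← hρ] at h ⊢
  rw [fix_iff_exists]
  by_contra hcon
  push Not at hcon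
  have h0 : ∀ v : Fin n → ℂ, ∑ z : H, ρ (z : G) v = 0 := by
    intro v
    by_contra hv
    obtain ⟨z, hz, hne⟩ := hcon _ hv
    apply hne
    rw [map_sum, ← Equiv.sum_comp (Equiv.mulLeft (⟨z, hz⟩ : H)) (fun x : H => ρ (x : G) v)]
    refine Finset.sum_congr rfl fun x _ => ?_
    simp only [Equiv.coe_mulLeft, Subgroup.coe_mul, map_mul]
    rfl
  have h1 : ∑ z : H, ρ (z : G) = 0 := by
    refine LinearMap.ext fun v => ?_
    rw [LinearMap.sum_apply, h0]
    rfl
  have h2 : ∀ x : G, ∑ z : H, ρ.character ((z : G) * x) = 0 := by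
    intro x
    have e1 : ∀ z : H, ρ.character ((z : G) * x) = LinearMap.trace ℂ _ (ρ (z : G) * ρ x) := by
      intro z
      rw [← map_mul]
      rfl
    rw [Finset.sum_congr rfl fun z _ => e1 z, ← map_sum, ← Finset.sum_mul, h1, zero_mul, map_zero]
  apply h
  have hH : (Fintype.card H : ℂ) ≠ 0 := by
    exact_mod_cast Fintype.card_ne_zero
  have h3 : ∀ z : H, ∑ g, φ g * ρ.character g⁻¹ = ∑ g, φ g * ρ.character ((z : G) * g⁻¹) := by
    intro z
    rw [← Equiv.sum_comp (Equiv.mulRight ((z : G)⁻¹))]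
    refine Finset.sum_congr rfl fun g _ => ?_
    simp only [Equiv.coe_mulRight, mul_inv_rev, inv_inv]
    rw [hr _ (H.inv_mem z.2)]
  have h4 : (Fintype.card H : ℂ) * ∑ g, φ g * ρ.character g⁻¹ = 0 := by
    calc (Fintype.card H : ℂ) * ∑ g, φ g * ρ.character g⁻¹ = ∑ z : H, ∑ g, φ g * ρ.character g⁻¹ := by
          rw [Finset.sum_const, Finset.card_univ, nsmul_eq_mul]
      _ = ∑ z : H, ∑ g, φ g * ρ.character ((z : G) * g⁻¹) := Finset.sum_congr rfl fun z _ => h3 z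
      _ = ∑ g, φ g * ∑ z : H, ρ.character ((z : G) * g⁻¹) := by
          rw [Finset.sum_comm]
          exact Finset.sum_congr rfl fun g _ => by rw [Finset.mul_sum]
      _ = 0 := Finset.sum_eq_zero fun g _ => by rw [h2, mul_zero]
  exact (mul_eq_zero.1 h4).resolve_left hH

/-- **Spherical functions.** -/
theorem exists_irr_of_spherical [Fintype G] {φ : G → ℂ} {κ : ℂ} (h1 : φ 1 = 1)
    (hκ : ∑ z, φ z * φ z⁻¹ = κ) (hκ0 : κ ≠ 0)
    (hprim : ∀ y u, ∑ g, φ g * φ (y⁻¹ * g⁻¹ * u) = (∑ g, φ g * φ (y⁻¹ * g⁻¹)) * φ u) :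
    ∃ χ : IrrCharacter G, (χ : G → ℂ) 1 * κ = Nat.card G ∧ ∑ g, φ g * (χ : G → ℂ) g⁻¹ ≠ 0 := by
  classical
  -- the idempotent
  have hid : ∀ u, ∑ g, φ g * φ (g⁻¹ * u) = κ * φ u := by
    intro u
    have h := hprim 1 u
    rw [inv_one] at h
    simp only [one_mul] at h
    rw [h, hκ]
  have hy : ∀ y, ∑ g, φ g * φ (y⁻¹ * g⁻¹) = κ * φ y⁻¹ := by
    intro y
    rw [← hid y⁻¹, ← Equiv.sum_comp ((Equiv.mulLeft y).trans (Equiv.inv G))]
    refine Finset.sum_congr rfl fun k _ => ?_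
    simp only [Equiv.trans_apply, Equiv.inv_apply, Equiv.coe_mulLeft, inv_inv, mul_inv_rev]
    rw [inv_mul_cancel_left, mul_comm]
  have hG : (Nat.card G : ℂ) ≠ 0 := by
    exact_mod_cast Nat.card_pos.ne'
  -- the character
  have hc : IsCharacter G (fun g : G => ∑ a : G, κ⁻¹ * φ (a⁻¹ * (g * a))) := by
    have := Cfsg.Agent.H651.isCharacter_sum_perm (MulAction.toPermHom G G)
      (fun a b => κ⁻¹ * φ (a⁻¹ * b)) ?_ ?_
    · exact this
    · intro a c
      have h2 : ∀ b, κ⁻¹ * φ (a⁻¹ * b) * (κ⁻¹ * φ (b⁻¹ * c)) =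
          κ⁻¹ * κ⁻¹ * (φ (a⁻¹ * b) * φ (b⁻¹ * c)) := fun b => by ring
      rw [Finset.sum_congr rfl fun b _ => h2 b, ← Finset.mul_sum]
      rw [← Equiv.sum_comp (Equiv.mulLeft a)]
      have h3 : ∀ b, φ (a⁻¹ * (Equiv.mulLeft a) b) * φ (((Equiv.mulLeft a) b)⁻¹ * c) =
          φ b * φ (b⁻¹ * (a⁻¹ * c)) := by
        intro b
        simp only [Equiv.coe_mulLeft, inv_mul_cancel_left, mul_inv_rev, mul_assoc]
      rw [Finset.sum_congr rfl fun b _ => h3 b, hid]
      field_simp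
    · intro g a b
      show κ⁻¹ * φ ((g * a)⁻¹ * (g * b)) = _
      rw [mul_inv_rev, mul_assoc, inv_mul_cancel_left]
  set θ : G → ℂ := fun g : G => ∑ a : G, κ⁻¹ * φ (a⁻¹ * (g * a)) with hθ
  -- its norm
  have h4 : ∑ g, κ⁻¹ * φ g * θ g⁻¹ = 1 := by
    have e1 : ∀ g, κ⁻¹ * φ g * θ g⁻¹ = ∑ y, κ⁻¹ * κ⁻¹ * (φ g * φ (y⁻¹ * g⁻¹ * y)) := by
      intro g
      rw [hθ]
      show κ⁻¹ * φ g * ∑ a : G, κ⁻¹ * φ (a⁻¹ * (g⁻¹ * a)) = _
      rw [Finset.mul_sum]
      refine Finset.sum_congr rfl fun a _ => ?_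
      rw [← mul_assoc a⁻¹]
      ring
    rw [Finset.sum_congr rfl fun g _ => e1 g, Finset.sum_comm]
    have e2 : ∀ y : G, ∑ g, κ⁻¹ * κ⁻¹ * (φ g * φ (y⁻¹ * g⁻¹ * y)) =
        κ⁻¹ * (φ y * φ y⁻¹) := by
      intro y
      rw [← Finset.mul_sum, hprim, hy]
      field_simp
    rw [Finset.sum_congr rfl fun y _ => e2 y, ← Finset.mul_sum, hκ, inv_mul_cancel₀ hκ0]
  have hnorm : classInner θ θ = 1 := by
    rw [classInner_def]
    have h2 : ∀ g, θ g * conj (θ g) = θ g * θ g⁻¹ := fun g => by rw [isCharacter_apply_inv hc]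
    rw [Finset.sum_congr rfl fun g _ => h2 g]
    -- the second factor is a class function
    have hcl : ∀ g x, θ (x * g * x⁻¹) = θ g := by
      intro g x
      rw [hθ]
      show ∑ a : G, κ⁻¹ * φ (a⁻¹ * (x * g * x⁻¹ * a)) = ∑ a : G, κ⁻¹ * φ (a⁻¹ * (g * a))
      rw [← Equiv.sum_comp (Equiv.mulLeft x)]
      refine Finset.sum_congr rfl fun a _ => ?_
      simp only [Equiv.coe_mulLeft, mul_inv_rev]
      congr 2
      group
    have h3 : ∑ g, θ g * θ g⁻¹ = Nat.card G * ∑ g, κ⁻¹ * φ g * θ g⁻¹ := by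
      have e1 : ∀ g, θ g * θ g⁻¹ = ∑ a : G, κ⁻¹ * φ (a⁻¹ * (g * a)) * θ g⁻¹ := fun g => by
        rw [← Finset.sum_mul]
      rw [Finset.sum_congr rfl fun g _ => e1 g, Finset.sum_comm]
      have e2 : ∀ a : G, ∑ g, κ⁻¹ * φ (a⁻¹ * (g * a)) * θ g⁻¹ = ∑ g, κ⁻¹ * φ g * θ g⁻¹ := by
        intro a
        rw [← Equiv.sum_comp (MulAut.conj a).toEquiv]
        refine Finset.sum_congr rfl fun g _ => ?_
        have e3 : (MulAut.conj a).toEquiv g = a * g * a⁻¹ := rfl
        have e4 : (a * g * a⁻¹)⁻¹ = a * g⁻¹ * a⁻¹ := by group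
        have e5 : a⁻¹ * (a * g * a⁻¹ * a) = g := by group
        rw [e3, e4, hcl, e5]
      rw [Finset.sum_congr rfl fun a _ => e2 a, Finset.sum_const, Finset.card_univ,
        ← Nat.card_eq_fintype_card, nsmul_eq_mul]
    rw [h3, h4, mul_one, inv_mul_cancel₀ hG]
  have hirr : IsIrrCharacter G θ := isIrr_of_classInner_self hc hnorm
  refine ⟨⟨θ, hirr⟩, ?_, ?_⟩
  swap
  · intro h0
    have e1 : ∀ g, κ⁻¹ * φ g * θ g⁻¹ = κ⁻¹ * (φ g * θ g⁻¹) := fun g => by ring
    have h0' : ∑ g, φ g * θ g⁻¹ = 0 := h0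
    rw [Finset.sum_congr rfl fun g _ => e1 g, ← Finset.mul_sum, h0', mul_zero] at h4
    exact zero_ne_one h4
  show (∑ a : G, κ⁻¹ * φ (a⁻¹ * (1 * a))) * κ = _
  have h5 : ∀ a : G, κ⁻¹ * φ (a⁻¹ * (1 * a)) = κ⁻¹ := fun a => by
    rw [one_mul, inv_mul_cancel, h1, mul_one]
  rw [Finset.sum_congr rfl fun a _ => h5 a, Finset.sum_const, Finset.card_univ,
    ← Nat.card_eq_fintype_card, nsmul_eq_mul, mul_assoc, inv_mul_cancel₀ hκ0, mul_one]

/-- The version for the Hecke algebra. -/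
theorem exists_irr_of_hecke [Fintype G] (H : Subgroup G) [Fintype H] (t : G) {φ : G → ℂ} {μ κ : ℂ}
    (hl : ∀ h ∈ H, ∀ g, φ (h * g) = φ g) (hr : ∀ h ∈ H, ∀ g, φ (g * h) = φ g) (h1 : φ 1 = 1)
    (hT : ∀ g, ∑ h : H, φ (g * h * t) = μ * φ g)
    (huniq : ∀ f : G → ℂ, (∀ h ∈ H, ∀ g, f (h * g) = f g) → (∀ h ∈ H, ∀ g, f (g * h) = f g) →
      (∀ g, ∑ h : H, f (g * h * t) = μ * f g) → ∀ g, f g = f 1 * φ g)
    (hκ : ∑ z, φ z * φ z⁻¹ = κ) (hκ0 : κ ≠ 0) :
    ∃ χ : IrrCharacter G, (χ : G → ℂ) 1 * κ = Nat.card G ∧ Fix H (χ : G → ℂ) := by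
  suffices hs : ∃ χ : IrrCharacter G, (χ : G → ℂ) 1 * κ = Nat.card G ∧ ∑ g, φ g * (χ : G → ℂ) g⁻¹ ≠ 0 by
    obtain ⟨χ, hχ, hs⟩ := hs
    exact ⟨χ, hχ, fix_of_sum H hr χ hs⟩
  refine exists_irr_of_spherical h1 hκ hκ0 fun y u => ?_
  have h := huniq (fun u => ∑ g, φ g * φ (y⁻¹ * g⁻¹ * u)) ?_ ?_ ?_ u
  · simp only [mul_one] at h
    exact h
  · intro h hh g
    show ∑ x, φ x * φ (y⁻¹ * x⁻¹ * (h * g)) = ∑ x, φ x * φ (y⁻¹ * x⁻¹ * g)
    rw [← Equiv.sum_comp (Equiv.mulLeft h)]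
    refine Finset.sum_congr rfl fun x _ => ?_
    simp only [Equiv.coe_mulLeft]
    rw [hl h hh]
    congr 2
    group
  · intro h hh g
    show ∑ x, φ x * φ (y⁻¹ * x⁻¹ * (g * h)) = ∑ x, φ x * φ (y⁻¹ * x⁻¹ * g)
    refine Finset.sum_congr rfl fun x _ => ?_
    rw [← mul_assoc (y⁻¹ * x⁻¹), hr h hh]
  · intro g
    show ∑ h : H, ∑ x, φ x * φ (y⁻¹ * x⁻¹ * (g * h * t)) =
      μ * ∑ x, φ x * φ (y⁻¹ * x⁻¹ * g)
    rw [Finset.sum_comm, Finset.mul_sum]
    refine Finset.sum_congr rfl fun x _ => ?_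
    have e : ∀ h : H, φ x * φ (y⁻¹ * x⁻¹ * (g * h * t)) = φ x * φ (y⁻¹ * x⁻¹ * g * h * t) := by
      intro h
      congr 2
      group
    rw [Finset.sum_congr rfl fun h _ => e h, ← Finset.mul_sum, hT]
    ring

open DoubleCoset in
/-- **Irreducible characters from a table of local counts.** -/
theorem exists_irr_of_table [Finite G] (H : Subgroup G) {m n : ℕ} (w : Fin m → G) (t : G)
    (hdis : ∀ i j, w j ∈ doubleCoset (w i) (H : Set G) (H : Set G) → i = j)
    (hcov : ∀ g, ∃ i, g ∈ doubleCoset (w i) (H : Set G) (H : Set G))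
    (hinv : ∀ i, (w i)⁻¹ ∈ doubleCoset (w i) (H : Set G) (H : Set G))
    (pt : H → Fin n) (N : ℕ) (hN : 0 < N) (hpt : ∀ q, Nat.card {h : H // pt h = q} = N)
    (τ : Fin m → Fin n → Fin m)
    (hτ : ∀ i (h : H), w i * h * t ∈ doubleCoset (w (τ i (pt h))) (H : Set G) (H : Set G))
    (k : Fin m → Fin m → ℕ)
    (hk : ∀ i j, (Finset.univ.filter (fun q => τ i q = j)).card = k i j)
    (i0 : Fin m) (hi0 : w i0 = 1) (v : Fin m → ℚ) (μ : ℚ) (hv0 : v i0 = 1)
    (hv : ∀ i, ∑ j, (k i j : ℚ) * v j = μ * v i)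
    (hu : ∀ x : Fin m → ℂ, (∀ i, ∑ j, (k i j : ℂ) * x j = μ * x i) → ∀ i, x i = x i0 * v i) :
    ∃ χ : IrrCharacter G, (χ : G → ℂ) 1 *
      ((∑ i, (Cfsg.Agent.HN.Count.sz H (w i) : ℚ) * v i ^ 2 : ℚ) : ℂ) = H.index ∧ Fix H (χ : G → ℂ) := by
  classical
  have := Fintype.ofFinite G
  have := Fintype.ofFinite H
  choose lab hlab using hcov
  -- the label of a product
  have huniq : ∀ g i, g ∈ doubleCoset (w i) (H : Set G) (H : Set G) → lab g = i := by
    intro g i hg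
    apply hdis
    have h1 := doubleCoset_eq_of_mem hg
    have h2 := doubleCoset_eq_of_mem (hlab g)
    have h3 : w i ∈ doubleCoset g (H : Set G) (H : Set G) := by
      rw [h1]; exact mem_doubleCoset_self H H (w i)
    rwa [h2] at h3
  have hlabl : ∀ h ∈ H, ∀ g, lab (h * g) = lab g := by
    intro h hh g
    apply huniq
    obtain ⟨a, ha, b, hb, e⟩ := mem_doubleCoset.1 (hlab g)
    exact mem_doubleCoset.2 ⟨h * a, H.mul_mem hh ha, b, hb, by
      nth_rewrite 1 [e]; simp only [mul_assoc]⟩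
  have hlabr : ∀ h ∈ H, ∀ g, lab (g * h) = lab g := by
    intro h hh g
    apply huniq
    obtain ⟨a, ha, b, hb, e⟩ := mem_doubleCoset.1 (hlab g)
    exact mem_doubleCoset.2 ⟨a, ha, b * h, H.mul_mem hb hh, by
      nth_rewrite 1 [e]; simp only [mul_assoc]⟩
  have hlabw : ∀ i, lab (w i) = i := fun i => huniq _ _ (mem_doubleCoset_self H H (w i))
  have hlabi : ∀ g, lab g⁻¹ = lab g := by
    intro g
    apply huniq
    obtain ⟨a, ha, b, hb, e⟩ := mem_doubleCoset.1 (hlab g)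
    obtain ⟨a', ha', b', hb', e'⟩ := mem_doubleCoset.1 (hinv (lab g))
    refine mem_doubleCoset.2 ⟨b⁻¹ * a', H.mul_mem (H.inv_mem hb) ha', b' * a⁻¹,
      H.mul_mem hb' (H.inv_mem ha), ?_⟩
    nth_rewrite 1 [e]
    rw [mul_inv_rev, mul_inv_rev, e']
    group
  -- biinvariant functions
  have hf : ∀ f : G → ℂ, (∀ h ∈ H, ∀ g, f (h * g) = f g) → (∀ h ∈ H, ∀ g, f (g * h) = f g) →
      ∀ i g, g ∈ doubleCoset (w i) (H : Set G) (H : Set G) → f g = f (w i) := by
    intro f hl hr i g hg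
    obtain ⟨a, ha, b, hb, e⟩ := mem_doubleCoset.1 hg
    rw [e, hr b hb, hl a ha]
  have hsum : ∀ f : G → ℂ, (∀ h ∈ H, ∀ g, f (h * g) = f g) → (∀ h ∈ H, ∀ g, f (g * h) = f g) →
      ∀ g, ∑ h : H, f (g * h * t) = N * ∑ j, (k (lab g) j : ℂ) * f (w j) := by
    intro f hl hr g
    obtain ⟨a, ha, b, hb, e⟩ := mem_doubleCoset.1 (hlab g)
    have h1 : ∀ h : H, f (g * h * t) = f (w (lab g) * ((⟨b, hb⟩ * h : H) : G) * t) := by
      intro h
      nth_rewrite 1 [e]
      have : a * w (lab g) * b * h * t = a * (w (lab g) * (b * h) * t) := by group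
      rw [this, hl a ha]
      rfl
    have h6 := Equiv.sum_comp (Equiv.mulLeft (⟨b, hb⟩ : H))
      (fun h : H => f (w (lab g) * (h : G) * t))
    simp only [Equiv.coe_mulLeft] at h6
    rw [Finset.sum_congr rfl fun h _ => h1 h, h6]
    have h2 : ∀ h : H, f (w (lab g) * (h : G) * t) = f (w (τ (lab g) (pt h))) :=
      fun h => hf f hl hr _ _ (hτ (lab g) h)
    rw [Finset.sum_congr rfl fun h _ => h2 h]
    rw [← Finset.sum_fiberwise (s := Finset.univ) (g := fun h : H => pt h)]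
    have h3 : ∀ q : Fin n, ∑ h : H with pt h = q, f (w (τ (lab g) (pt h))) =
        N * f (w (τ (lab g) q)) := by
      intro q
      have h4 : ∀ h ∈ Finset.univ.filter (fun h : H => pt h = q),
          f (w (τ (lab g) (pt h))) = f (w (τ (lab g) q)) := by
        intro h hh
        rw [(Finset.mem_filter.1 hh).2]
      rw [Finset.sum_congr rfl h4, Finset.sum_const, nsmul_eq_mul, ← hpt q,
        Nat.card_eq_fintype_card, Fintype.card_subtype]
    rw [Finset.sum_congr rfl fun q _ => h3 q, ← Finset.mul_sum]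
    congr 1
    rw [← Finset.sum_fiberwise (s := Finset.univ) (g := fun q : Fin n => τ (lab g) q)]
    refine Finset.sum_congr rfl fun j _ => ?_
    have h5 : ∀ q ∈ Finset.univ.filter (fun q : Fin n => τ (lab g) q = j),
        f (w (τ (lab g) q)) = f (w j) := by
      intro q hq
      rw [(Finset.mem_filter.1 hq).2]
    rw [Finset.sum_congr rfl h5, Finset.sum_const, nsmul_eq_mul, hk]
  -- the size of a double coset
  have hsz : ∀ i, (Finset.univ.filter (fun g : G => lab g = i)).card =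
      Nat.card H * Cfsg.Agent.HN.Count.sz H (w i) := by
    intro i
    rw [← card_doubleCoset, ← Fintype.card_subtype, ← Nat.card_eq_fintype_card]
    refine Nat.card_congr (Equiv.subtypeEquivRight fun g => ⟨?_, fun h => huniq _ _ h⟩)
    rintro rfl
    exact hlab g
  -- the sum
  set K : ℚ := ∑ i, (Cfsg.Agent.HN.Count.sz H (w i) : ℚ) * v i ^ 2 with hK
  have hKpos : 0 < K := by
    rw [hK]
    refine Finset.sum_pos' (fun i _ => by positivity) ⟨i0, Finset.mem_univ _, ?_⟩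
    rw [hv0, one_pow, mul_one]
    exact_mod_cast Cfsg.Agent.HN.Count.sz_pos H (w i0)
  have hH : (0 : ℚ) < Nat.card H := by exact_mod_cast Nat.card_pos
  have hκ : ∑ z : G, ((v (lab z) : ℚ) : ℂ) * ((v (lab z⁻¹) : ℚ) : ℂ) =
      ((Nat.card H * K : ℚ) : ℂ) := by
    have h1 : ∀ z, ((v (lab z) : ℚ) : ℂ) * ((v (lab z⁻¹) : ℚ) : ℂ) =
        ((v (lab z) ^ 2 : ℚ) : ℂ) := by
      intro z
      rw [hlabi]
      push_cast
      ring
    rw [Finset.sum_congr rfl fun z _ => h1 z, ← Rat.cast_sum]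
    congr 1
    rw [← Finset.sum_fiberwise (s := Finset.univ) (g := fun z : G => lab z), hK, Finset.mul_sum]
    refine Finset.sum_congr rfl fun i _ => ?_
    have h2 : ∀ z ∈ Finset.univ.filter (fun z : G => lab z = i), v (lab z) ^ 2 = v i ^ 2 := by
      intro z hz
      rw [(Finset.mem_filter.1 hz).2]
    rw [Finset.sum_congr rfl h2, Finset.sum_const, nsmul_eq_mul, hsz]
    push_cast
    ring
  have hmain := exists_irr_of_hecke H t (φ := fun g => ((v (lab g) : ℚ) : ℂ))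
    (μ := N * ((μ : ℚ) : ℂ)) (κ := ((Nat.card H * K : ℚ) : ℂ)) ?_ ?_ ?_ ?_ ?_ hκ ?_
  · obtain ⟨χ, hχ, hF⟩ := hmain
    refine ⟨χ, ?_, hF⟩
    have h1 := H.card_mul_index
    have h2 : ((Nat.card H : ℕ) : ℂ) * H.index = Nat.card G := by exact_mod_cast h1
    rw [← h2] at hχ
    have h3 : ((Nat.card H : ℕ) : ℂ) ≠ 0 := by exact_mod_cast Nat.card_pos.ne'
    apply mul_left_cancel₀ h3
    rw [← hχ]
    push_cast
    ring
  · intro h hh g
    show ((v (lab (h * g)) : ℚ) : ℂ) = ((v (lab g) : ℚ) : ℂ)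
    rw [hlabl h hh]
  · intro h hh g
    show ((v (lab (g * h)) : ℚ) : ℂ) = ((v (lab g) : ℚ) : ℂ)
    rw [hlabr h hh]
  · show ((v (lab 1) : ℚ) : ℂ) = 1
    have : lab 1 = i0 := by rw [← hi0]; exact hlabw i0
    rw [this, hv0, Rat.cast_one]
  · intro g
    rw [hsum (fun g => ((v (lab g) : ℚ) : ℂ)) (fun h hh g => by
      show ((v (lab (h * g)) : ℚ) : ℂ) = ((v (lab g) : ℚ) : ℂ)
      rw [hlabl h hh]) (fun h hh g => by
      show ((v (lab (g * h)) : ℚ) : ℂ) = ((v (lab g) : ℚ) : ℂ)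
      rw [hlabr h hh])]
    rw [mul_assoc]
    congr 1
    have h1 := hv (lab g)
    have h2 : ((∑ j, (k (lab g) j : ℚ) * v j : ℚ) : ℂ) = ((μ * v (lab g) : ℚ) : ℂ) := by rw [h1]
    rw [← Rat.cast_mul, ← h2]
    push_cast
    exact Finset.sum_congr rfl fun j _ => by rw [hlabw]
  · intro f hl hr hT g
    have h1 := hu (fun i => f (w i)) (fun i => by
      have h2 := hT (w i)
      rw [hsum f hl hr, hlabw, mul_assoc] at h2
      exact mul_left_cancel₀ (by exact_mod_cast hN.ne') h2) (lab g)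
    show f g = f 1 * ((v (lab g) : ℚ) : ℂ)
    rw [hf f hl hr _ _ (hlab g), h1, hi0]
  · have : (0 : ℚ) < Nat.card H * K := mul_pos hH hKpos
    exact_mod_cast this.ne'

/-- **Irreducible characters from an operator on biinvariant functions.** -/
theorem exists_irr_of_lab [Fintype G] (H : Subgroup G) [Fintype H] (t : G) {m : ℕ}
    (lab : G → Fin m) (w : Fin m → G)
    (hlabl : ∀ h ∈ H, ∀ g, lab (h * g) = lab g) (hlabr : ∀ h ∈ H, ∀ g, lab (g * h) = lab g)
    (hw : ∀ g, ∃ a ∈ H, ∃ b ∈ H, g = a * w (lab g) * b)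
    (hlabi : ∀ g, lab g⁻¹ = lab g) (N : ℂ) (hN : N ≠ 0) (k : Fin m → Fin m → ℂ)
    (hsum : ∀ f : G → ℂ, (∀ h ∈ H, ∀ g, f (h * g) = f g) → (∀ h ∈ H, ∀ g, f (g * h) = f g) →
      ∀ g, ∑ h : H, f (g * h * t) = N * ∑ j, k (lab g) j * f (w j))
    (hlabw : ∀ i, lab (w i) = i)
    (sz : Fin m → ℕ) (hsz : ∀ i, (Finset.univ.filter (fun g : G => lab g = i)).card =
      Nat.card H * sz i)
    (i0 : Fin m) (hi0 : w i0 = 1) (v : Fin m → ℂ) (μ : ℂ) (hv0 : v i0 = 1)
    (hv : ∀ i, ∑ j, k i j * v j = μ * v i)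
    (hu : ∀ x : Fin m → ℂ, (∀ i, ∑ j, k i j * x j = μ * x i) → ∀ i, x i = x i0 * v i)
    {K : ℂ} (hK : ∑ i, (sz i : ℂ) * v i ^ 2 = K) (hK0 : K ≠ 0) :
    ∃ χ : IrrCharacter G, (χ : G → ℂ) 1 * K = H.index ∧ Fix H (χ : G → ℂ) := by
  classical
  have hHc : ((Nat.card H : ℕ) : ℂ) ≠ 0 := by exact_mod_cast Nat.card_pos.ne'
  have hf : ∀ f : G → ℂ, (∀ h ∈ H, ∀ g, f (h * g) = f g) → (∀ h ∈ H, ∀ g, f (g * h) = f g) →
      ∀ g, f g = f (w (lab g)) := by
    intro f hl hr g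
    obtain ⟨a, ha, b, hb, e⟩ := hw g
    nth_rewrite 1 [e]
    rw [hr b hb, hl a ha]
  have hκ : ∑ z : G, v (lab z) * v (lab z⁻¹) = (Nat.card H : ℂ) * K := by
    have h1 : ∀ z, v (lab z) * v (lab z⁻¹) = v (lab z) ^ 2 := by
      intro z
      rw [hlabi, sq]
    rw [Finset.sum_congr rfl fun z _ => h1 z]
    rw [← Finset.sum_fiberwise (s := Finset.univ) (g := fun z : G => lab z), ← hK, Finset.mul_sum]
    refine Finset.sum_congr rfl fun i _ => ?_
    have h2 : ∀ z ∈ Finset.univ.filter (fun z : G => lab z = i), v (lab z) ^ 2 = v i ^ 2 := by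
      intro z hz
      rw [(Finset.mem_filter.1 hz).2]
    rw [Finset.sum_congr rfl h2, Finset.sum_const, nsmul_eq_mul, hsz]
    push_cast
    ring
  have hmain := exists_irr_of_hecke H t (φ := fun g => v (lab g))
    (μ := N * μ) (κ := (Nat.card H : ℂ) * K) ?_ ?_ ?_ ?_ ?_ hκ (mul_ne_zero hHc hK0)
  · obtain ⟨χ, hχ, hF⟩ := hmain
    refine ⟨χ, ?_, hF⟩
    have h1 := H.card_mul_index
    have h2 : ((Nat.card H : ℕ) : ℂ) * H.index = Nat.card G := by exact_mod_cast h1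
    rw [← h2] at hχ
    apply mul_left_cancel₀ hHc
    rw [← hχ]
    ring
  · intro h hh g
    show v (lab (h * g)) = v (lab g)
    rw [hlabl h hh]
  · intro h hh g
    show v (lab (g * h)) = v (lab g)
    rw [hlabr h hh]
  · show v (lab 1) = 1
    have : lab 1 = i0 := by rw [← hi0]; exact hlabw i0
    rw [this, hv0]
  · intro g
    rw [hsum (fun g => v (lab g)) (fun h hh g => by
      show v (lab (h * g)) = v (lab g)
      rw [hlabl h hh]) (fun h hh g => by
      show v (lab (g * h)) = v (lab g)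
      rw [hlabr h hh])]
    rw [mul_assoc, ← hv (lab g)]
    congr 1
    exact Finset.sum_congr rfl fun j _ => by rw [hlabw]
  · intro f hl hr hT g
    have h1 := hu (fun i => f (w i)) (fun i => by
      have h2 := hT (w i)
      rw [hsum f hl hr, hlabw, mul_assoc] at h2
      exact mul_left_cancel₀ hN h2) (lab g)
    show f g = f 1 * v (lab g)
    rw [hf f hl hr g, h1, hi0]

section nodes

open DoubleCoset Cfsg.Agent.HN.Count

variable {M : Type v} [Group M] {φ : M →* G} {B : Subgroup G} {n : ℕ} {c : ℕ → G} {ib : ℕ → ℕ} {m : ℕ} {cls : ℕ → Fin m}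

open Classical in
/-- **Irreducible characters from a table of transitions of nodes.** -/
theorem exists_irr [Finite G] [Finite M] (h : Nd φ B n c ib) {t : G} (K : Subgroup M)
    (hK : ∀ w ∈ K, Commute t (φ w)) {NP : ℕ} (A : Fin NP → M)
    (hA : ∀ g, ∃ q, ∃ w ∈ K, g = A q * w) (hNP : NP ≤ K.index) (hNP0 : 0 < NP)
    (hm : ∀ j < n, ∀ k < n, cls j = cls k → c k ∈ doubleCoset (c j) (B : Set G) (B : Set G))
    (hdis : ∀ j < n, ∀ k < n, c k ∈ doubleCoset (c j) (B : Set G) (B : Set G) → cls j = cls k)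
    (rep : Fin m → ℕ) (hrep : ∀ i, rep i < n) (hcr : ∀ i, cls (rep i) = i)
    (Mt : ℕ → Fin m → ℕ) (hMt : ∀ j < n, ∀ i,
      (Finset.univ.filter fun q => cls (h.node (c j * φ (A q) * t)) = i).card = Mt j i)
    (r : ℕ) (hr0 : 0 < r) (P : Fin m → Fin m → ℕ)
    (hP : ∀ i i', r * ∑ j ∈ (Finset.range n).filter (fun j => cls j = i), ib j * Mt j i' =
      szc n ib cls i * P i i')
    (hinj : ∀ i i', szc n ib cls i = szc n ib cls i' → i = i')
    (i0 : Fin m) (hi0 : c (rep i0) = 1) (v : Fin m → ℂ) (μ : ℂ) (hv0 : v i0 = 1)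
    (hv : ∀ i, ∑ j, (P i j : ℂ) * v j = μ * v i)
    (hu : ∀ x : Fin m → ℂ, (∀ i, ∑ j, (P i j : ℂ) * x j = μ * x i) → ∀ i, x i = x i0 * v i)
    {κ : ℂ} (hκ : ∑ i, (szc n ib cls i : ℂ) * v i ^ 2 = κ) (hκ0 : κ ≠ 0) :
    ∃ χ : IrrCharacter G, (χ : G → ℂ) 1 * κ = B.index ∧ Fix B (χ : G → ℂ) := by
  have := Fintype.ofFinite G
  have := Fintype.ofFinite M
  have := Fintype.ofFinite B
  have hself : ∀ g, g ∈ doubleCoset (c (h.node g)) (B : Set G) (B : Set G) := fun g =>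
    (h.mem_dc g _).2 (mem_doubleCoset_self B B _)
  -- membership
  have hmemc : ∀ g, ∀ k < n, (c k ∈ doubleCoset g (B : Set G) (B : Set G) ↔
      cls k = cls (h.node g)) := by
    intro g k hk
    have e1 := doubleCoset_eq_of_mem (hself g)
    rw [e1]
    constructor
    · intro h1
      exact (hdis _ (h.node_lt g) k hk h1).symm
    · intro h1
      exact hm _ (h.node_lt g) k hk h1.symm
  have hszg : ∀ g, sz B g = szc n ib cls (cls (h.node g)) := by
    intro g
    rw [h.sz_eq hm g]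
    have e1 : (Finset.univ.filter fun i : Fin m => ∃ k < n, cls k = i ∧
        c k ∈ doubleCoset g (B : Set G) (B : Set G)) = {cls (h.node g)} := by
      ext i
      rw [Finset.mem_filter, Finset.mem_singleton]
      constructor
      · rintro ⟨_, k, hk, rfl, hd⟩
        exact (hmemc g k hk).1 hd
      · rintro rfl
        exact ⟨Finset.mem_univ _, h.node g, h.node_lt g, rfl,
          (hmemc g _ (h.node_lt g)).2 rfl⟩
    rw [e1, Finset.sum_singleton]
  have hpos : ∀ i, 0 < szc n ib cls i := by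
    intro i
    have e1 := hszg (c (rep i))
    rw [h.node_c (hrep i), hcr] at e1
    rw [← e1]
    exact sz_pos B _
  have hlabr : ∀ b ∈ B, ∀ g, cls (h.node (g * b)) = cls (h.node g) := by
    intro b hb g
    have e1 : g * b ∈ doubleCoset (c (h.node g)) (B : Set G) (B : Set G) :=
      (dc_mul_right B _ hb g).2 (hself g)
    exact (hdis _ (h.node_lt g) _ (h.node_lt _) ((h.mem_dc _ _).1 e1)).symm
  have hdc : ∀ g i, g ∈ doubleCoset (c (rep i)) (B : Set G) (B : Set G) ↔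
      cls (h.node g) = i := by
    intro g i
    rw [h.mem_dc, hmemc _ _ (h.node_lt g), h.node_c (hrep i), hcr]
  have hBc : ((Nat.card B : ℕ) : ℂ) ≠ 0 := by exact_mod_cast Nat.card_pos.ne'
  have hrc : ((r : ℕ) : ℂ) ≠ 0 := by exact_mod_cast hr0.ne'
  have hNc : ((NP : ℕ) : ℂ) ≠ 0 := by exact_mod_cast hNP0.ne'
  refine exists_irr_of_lab B t (fun g => cls (h.node g)) (fun i => c (rep i)) ?_ hlabr ?_ ?_
    ((Nat.card B : ℂ) / (r * NP)) (div_ne_zero hBc (mul_ne_zero hrc hNc))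
    (fun i j => (P i j : ℂ)) ?_ ?_ (szc n ib cls) ?_ i0 hi0 v μ hv0 hv hu hκ hκ0
  · intro b hb g
    have e1 := h.node_mul (x := g) hb (1 : M)
    rw [map_one, mul_one] at e1
    show cls (h.node (b * g)) = cls (h.node g)
    rw [e1]
  · intro g
    obtain ⟨a, ha, b, hb, e⟩ := mem_doubleCoset.1 ((hdc g _).2 rfl)
    exact ⟨a, ha, b, hb, e⟩
  · intro g
    apply hinj
    rw [← hszg, ← hszg, sz_inv]
  · intro f hl hr g
    have e1 := h.hecke_dc K hK A hA hNP hl hr g (t := t)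
    have e2 : (Finset.range n).filter (fun j => c j ∈ doubleCoset g (B : Set G) (B : Set G)) =
        (Finset.range n).filter (fun j => cls j = cls (h.node g)) := by
      refine Finset.filter_congr fun j hj => ?_
      exact hmemc g j (Finset.mem_range.1 hj)
    have e3 : ∀ j < n, ∑ q, f (c j * φ (A q) * t) = ∑ i, (Mt j i : ℂ) * f (c (rep i)) := by
      intro j hj
      have e4 : ∀ q, f (c j * φ (A q) * t) =
          f (c (rep (cls (h.node (c j * φ (A q) * t))))) := by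
        intro q
        obtain ⟨a, ha, b, hb, e⟩ := mem_doubleCoset.1 ((hdc (c j * φ (A q) * t) _).2 rfl)
        nth_rewrite 1 [e]
        rw [hr b hb, hl a ha]
      rw [Finset.sum_congr rfl fun q _ => e4 q]
      rw [← Finset.sum_fiberwise (s := Finset.univ)
        (g := fun q => cls (h.node (c j * φ (A q) * t)))]
      refine Finset.sum_congr rfl fun i _ => ?_
      have e5 : ∀ q ∈ Finset.univ.filter (fun q => cls (h.node (c j * φ (A q) * t)) = i),
          f (c (rep (cls (h.node (c j * φ (A q) * t))))) = f (c (rep i)) := by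
        intro q hq
        rw [(Finset.mem_filter.1 hq).2]
      rw [Finset.sum_congr rfl e5, Finset.sum_const, nsmul_eq_mul, hMt j hj i]
    rw [e2, hszg] at e1
    have e6 : ∑ j ∈ (Finset.range n).filter (fun j => cls j = cls (h.node g)),
        (ib j : ℂ) * ∑ q, f (c j * φ (A q) * t) =
        ∑ i, ((∑ j ∈ (Finset.range n).filter (fun j => cls j = cls (h.node g)),
          ib j * Mt j i : ℕ) : ℂ) * f (c (rep i)) := by
      have e7 : ∀ j ∈ (Finset.range n).filter (fun j => cls j = cls (h.node g)),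
          (ib j : ℂ) * ∑ q, f (c j * φ (A q) * t) =
          ∑ i, (ib j : ℂ) * Mt j i * f (c (rep i)) := by
        intro j hj
        rw [e3 j (Finset.mem_range.1 (Finset.mem_filter.1 hj).1), Finset.mul_sum]
        exact Finset.sum_congr rfl fun i _ => by ring
      rw [Finset.sum_congr rfl e7, Finset.sum_comm]
      refine Finset.sum_congr rfl fun i _ => ?_
      push_cast
      rw [Finset.sum_mul]
    rw [e6] at e1
    set i1 := cls (h.node g) with hi1
    have hs : ((szc n ib cls i1 : ℕ) : ℂ) ≠ 0 := by exact_mod_cast (hpos i1).ne'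
    have e8 : (r : ℂ) * ∑ i, ((∑ j ∈ (Finset.range n).filter (fun j => cls j = i1),
          ib j * Mt j i : ℕ) : ℂ) * f (c (rep i)) =
        (szc n ib cls i1 : ℂ) * ∑ i, (P i1 i : ℂ) * f (c (rep i)) := by
      rw [Finset.mul_sum, Finset.mul_sum]
      refine Finset.sum_congr rfl fun i _ => ?_
      have e9 := hP i1 i
      have e10 : (r : ℂ) * ((∑ j ∈ (Finset.range n).filter (fun j => cls j = i1),
          ib j * Mt j i : ℕ) : ℂ) = (szc n ib cls i1 : ℂ) * (P i1 i : ℂ) := by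
        exact_mod_cast e9
      rw [← mul_assoc, ← mul_assoc, e10]
    rw [div_mul_eq_mul_div, eq_div_iff (mul_ne_zero hrc hNc)]
    apply mul_left_cancel₀ hs
    linear_combination (r : ℂ) * e1 + (Nat.card B : ℂ) * e8
  · intro i
    show cls (h.node (c (rep i))) = i
    rw [h.node_c (hrep i), hcr]
  · intro i
    have e1 := card_doubleCoset B (c (rep i))
    rw [hszg, h.node_c (hrep i), hcr] at e1
    rw [← e1, Nat.card_eq_fintype_card, ← Fintype.card_subtype]
    exact Fintype.card_congr (Equiv.subtypeEquivRight fun g => (hdc g i).symm)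

end nodes

/-- **The final step**: a constituent of degree divisible by `p` of a permutation character of degree prime to `p`. -/
theorem imc_of [Finite G] {p : ℕ} [hp : Fact p.Prime] (H : Subgroup G) (hH : ¬ p ∣ H.index) {d : ℕ} (hd : p ∣ d)
    (h : ∃ χ : IrrCharacter G, (χ : G → ℂ) 1 = d ∧ Fix H (χ : G → ℂ)) : IMC p G := by
  obtain ⟨χ, h1, h2⟩ := h
  refine IMC.of_le H hH χ ?_ h2
  rwa [Cfsg.Agent.Blocks.Basic.charDegree_of_eq h1]

end Cfsg.Agent.H941.Imc.Sph
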